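import Groth.Agent.Lib.QCoh.SupportExact
import Groth.Agent.Lib.QCoh.AvoidSub
import Groth.Agent.Lib.OX.PullbackStalk
import Groth.Agent.Lib.Flatness.InjMod
import Groth.Agent.Lib.FibreFlat.Fibrewise
import Mathlib.RingTheory.Ideal.Quotient.Operations
import Mathlib.LinearAlgebra.TensorProduct.Quotient

/-! # Morphisms of modules near a fibre: injectivity and surjectivity from the fibre -/

set_option autoImplicit false
set_option maxHeartbeats 1000000
set_option linter.style.haveILetI false
universe u

open CategoryTheory CategoryTheory.Limits AlgebraicGeometry TopologicalSpace Opposite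
open scoped TensorProduct

namespace GrothLib.LocFreeHom

/-- Along a surjective ring map `1 ⊗ m` vanishes iff `m` is in the kernel times the module. -/
theorem one_tmul_eq_zero_iff {R S M : Type u} [CommRing R] [CommRing S] [Algebra R S]
    (hs : Function.Surjective (algebraMap R S)) [AddCommGroup M] [Module R M] (m : M) :
    (1 : S) ⊗ₜ[R] m = 0 ↔ m ∈ RingHom.ker (algebraMap R S) • (⊤ : Submodule R M) := by
  let e : (R ⧸ RingHom.ker (Algebra.ofId R S)) ≃ₐ[R] S := Ideal.quotientKerAlgEquivOfSurjective hs
  let E : S ⊗[R] M ≃ₗ[R] M ⧸ (RingHom.ker (Algebra.ofId R S) • (⊤ : Submodule R M)) :=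
    (TensorProduct.congr e.toLinearEquiv.symm (LinearEquiv.refl R M)) ≪≫ₗ
      TensorProduct.quotTensorEquivQuotSMul M _
  rw [← E.map_eq_zero_iff]
  have h1 : E (1 ⊗ₜ[R] m) = Submodule.Quotient.mk m := by
    show TensorProduct.quotTensorEquivQuotSMul M _ (e.symm 1 ⊗ₜ[R] m) = _
    rw [map_one, ← map_one (Ideal.Quotient.mk _), TensorProduct.quotTensorEquivQuotSMul_mk_tmul, one_smul]
  rw [h1, Submodule.Quotient.mk_eq_zero]
  rfl

/-- Nakayama: surjective after a surjective base change with kernel in the maximal ideal. -/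
theorem surjective_of_surjective_bc {R S M N : Type u} [CommRing R] [IsLocalRing R] [CommRing S] [Nontrivial S]
    [Algebra R S] (hs : Function.Surjective (algebraMap R S)) [AddCommGroup M] [Module R M]
    [AddCommGroup N] [Module R N] [Module.Finite R N] (u : M →ₗ[R] N)
    (h : ∀ n : N, ∃ t : S ⊗[R] M, u.lTensor S t = 1 ⊗ₜ n) : Function.Surjective u := by
  have one : ∀ t : S ⊗[R] M, ∃ m : M, t = 1 ⊗ₜ m := fun t => by
    induction t using TensorProduct.induction_on with
    | zero => exact ⟨0, (TensorProduct.tmul_zero _ _).symm⟩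
    | tmul c m =>
      obtain ⟨r, rfl⟩ := hs c
      exact ⟨r • m, by rw [TensorProduct.tmul_smul, TensorProduct.smul_tmul', Algebra.smul_def, mul_one]⟩
    | add a b ha hb =>
      obtain ⟨m, rfl⟩ := ha
      obtain ⟨m', rfl⟩ := hb
      exact ⟨m + m', (TensorProduct.tmul_add _ _ _).symm⟩
  rw [← LinearMap.range_eq_top, eq_top_iff]
  refine Submodule.le_of_le_smul_of_le_jacobson_bot (I := IsLocalRing.maximalIdeal R) Module.Finite.fg_top
    (IsLocalRing.jacobson_eq_maximalIdeal ⊥ bot_ne_top).ge ?_
  intro n _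
  obtain ⟨t, ht⟩ := h n
  obtain ⟨m, rfl⟩ := one t
  rw [LinearMap.lTensor_tmul] at ht
  have h0 : (1 : S) ⊗ₜ[R] (n - u m) = 0 := by rw [TensorProduct.tmul_sub, ht, sub_self]
  refine Submodule.mem_sup.2 ⟨u m, LinearMap.mem_range_self u m, n - u m, ?_, add_sub_cancel _ _⟩
  exact Submodule.smul_mono_left (IsLocalRing.le_maximalIdeal (RingHom.ker_ne_top _))
    ((one_tmul_eq_zero_iff hs _).1 h0)

/-- The reduction form of injectivity after base change. -/
theorem mem_of_injective_bc {R S M N : Type u} [CommRing R] [CommRing S] [Algebra R S]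
    (hs : Function.Surjective (algebraMap R S)) [AddCommGroup M] [Module R M] [AddCommGroup N] [Module R N]
    (u : M →ₗ[R] N) (h : Function.Injective (u.lTensor S)) (m : M)
    (hm : u m ∈ RingHom.ker (algebraMap R S) • (⊤ : Submodule R N)) :
    m ∈ RingHom.ker (algebraMap R S) • (⊤ : Submodule R M) := by
  refine (one_tmul_eq_zero_iff hs m).1 (h ?_)
  rw [LinearMap.lTensor_tmul, map_zero]
  exact (one_tmul_eq_zero_iff hs _).2 hm

/-- Injective modulo the maximal ideal of the base into a flat module is injective. -/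
theorem injective_of_mem_maxIdeal {A B M N : Type u} [CommRing A] [IsLocalRing A] [CommRing B] [IsLocalRing B]
    [IsNoetherianRing B] [Algebra A B] [IsLocalHom (algebraMap A B)] [AddCommGroup M] [Module A M] [Module B M]
    [IsScalarTower A B M] [Module.Finite B M] [AddCommGroup N] [Module A N] [Module B N] [IsScalarTower A B N]
    [Module.Flat A N] (u : M →ₗ[B] N)
    (hu : ∀ m : M, u m ∈ (IsLocalRing.maximalIdeal A).map (algebraMap A B) • (⊤ : Submodule B N) →
      m ∈ (IsLocalRing.maximalIdeal A).map (algebraMap A B) • (⊤ : Submodule B M)) :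
    Function.Injective u := by
  have hsmul : ∀ (P : Type u) [AddCommGroup P] [Module A P] [Module B P] [IsScalarTower A B P] (p : P),
      p ∈ (IsLocalRing.maximalIdeal A).map (algebraMap A B) • (⊤ : Submodule B P) ↔
        p ∈ IsLocalRing.maximalIdeal A • (⊤ : Submodule A P) := fun P _ _ _ _ p => by
    rw [← Submodule.restrictScalars_mem A, Ideal.smul_restrictScalars, Submodule.restrictScalars_top]
  have hκ : Function.Injective ((u.restrictScalars A).lTensor (IsLocalRing.ResidueField A)) := by
    have hs : Function.Surjective (algebraMap A (IsLocalRing.ResidueField A)) := IsLocalRing.residue_surjective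
    rw [injective_iff_map_eq_zero]
    intro t ht
    obtain ⟨m, rfl⟩ : ∃ m : M, t = (1 : IsLocalRing.ResidueField A) ⊗ₜ[A] m := by
      clear ht
      induction t using TensorProduct.induction_on with
      | zero => exact ⟨0, (TensorProduct.tmul_zero _ _).symm⟩
      | tmul c m =>
        obtain ⟨r, rfl⟩ := hs c
        exact ⟨r • m, by rw [TensorProduct.tmul_smul, TensorProduct.smul_tmul', Algebra.smul_def, mul_one]⟩
      | add a b ha hb =>
        obtain ⟨m, rfl⟩ := ha
        obtain ⟨m', rfl⟩ := hb
        exact ⟨m + m', (TensorProduct.tmul_add _ _ _).symm⟩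
    rw [LinearMap.lTensor_tmul, one_tmul_eq_zero_iff hs] at ht
    rw [one_tmul_eq_zero_iff hs]
    have hk : RingHom.ker (algebraMap A (IsLocalRing.ResidueField A)) = IsLocalRing.maximalIdeal A :=
      Ideal.mk_ker
    rw [hk] at ht ⊢
    exact (hsmul M m).1 (hu m ((hsmul N _).2 ht))
  exact (Flatness.flat_coker_of_forall_mem (u.restrictScalars A) fun J x hx =>
    Flatness.mem_smul_top_of_map_mem (S := B) (u.restrictScalars A) hκ J x hx).1

variable {X Y Z : Scheme.{u}}

/-- The stalk of a pulled-back map. -/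
theorem stalk_pullback_map (g : Z ⟶ X) (z : Z) {M N : X.Modules} (u : M ⟶ N) :
    (OX.stalk z).map ((Scheme.Modules.pullback g).map u) =
      ((OX.pullStalkIso g z).hom.app M) ≫
        (ModuleCat.extendScalars (g.stalkMap z).hom).map ((OX.stalk (g z)).map u) ≫
          (OX.pullStalkIso g z).inv.app N := by
  have h := (OX.pullStalkIso g z).hom.naturality u
  rw [Functor.comp_map, Functor.comp_map] at h
  rw [← Category.assoc, ← h, Category.assoc, Iso.hom_inv_id_app]
  exact (Category.comp_id _).symm

/-- Surjectivity on a stalk descends from a fibre-like pullback. -/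
theorem surjective_stalk_of_pullback (g : Z ⟶ X) (z : Z) (hs : Function.Surjective (g.stalkMap z).hom)
    {M N : X.Modules} (hN : Coh.IsCoh N) (u : M ⟶ N) [Epi ((Scheme.Modules.pullback g).map u)] :
    Function.Surjective (QCoh.stalkLin u (g z)) := by
  have h0 : Epi ((ModuleCat.extendScalars (g.stalkMap z).hom).map ((OX.stalk (g z)).map u)) := by
    have : (ModuleCat.extendScalars (g.stalkMap z).hom).map ((OX.stalk (g z)).map u) =
        (OX.pullStalkIso g z).inv.app M ≫ (OX.stalk z).map ((Scheme.Modules.pullback g).map u) ≫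
          (OX.pullStalkIso g z).hom.app N := by
      rw [stalk_pullback_map]; simp
    rw [this]
    haveI : Epi ((OX.stalk z).map ((Scheme.Modules.pullback g).map u)) := (OX.epi_iff _).1 inferInstance z
    infer_instance
  have h1 := (ModuleCat.epi_iff_surjective _).1 h0
  letI := (g.stalkMap z).hom.toAlgebra
  haveI : Module.Finite (X.presheaf.stalk (g z)) (N.presheaf.stalk (g z)) := QCoh.stalk_finite N hN (g z)
  exact surjective_of_surjective_bc (S := Z.presheaf.stalk z) hs (QCoh.stalkLin u (g z))
    fun n => h1 ((1 : Z.presheaf.stalk z) ⊗ₜ n)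

/-- Injectivity on a pulled-back stalk, in reduction form. -/
theorem mem_of_mono_pullback (g : Z ⟶ X) (z : Z) (hs : Function.Surjective (g.stalkMap z).hom)
    {M N : X.Modules} (u : M ⟶ N) [Mono ((Scheme.Modules.pullback g).map u)] (m : M.presheaf.stalk (g z))
    (hm : QCoh.stalkLin u (g z) m ∈
      RingHom.ker (g.stalkMap z).hom • (⊤ : Submodule (X.presheaf.stalk (g z)) (N.presheaf.stalk (g z)))) :
    m ∈ RingHom.ker (g.stalkMap z).hom • (⊤ : Submodule (X.presheaf.stalk (g z)) (M.presheaf.stalk (g z))) := by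
  have h0 : Mono ((ModuleCat.extendScalars (g.stalkMap z).hom).map ((OX.stalk (g z)).map u)) := by
    have : (ModuleCat.extendScalars (g.stalkMap z).hom).map ((OX.stalk (g z)).map u) =
        (OX.pullStalkIso g z).inv.app M ≫ (OX.stalk z).map ((Scheme.Modules.pullback g).map u) ≫
          (OX.pullStalkIso g z).hom.app N := by
      rw [stalk_pullback_map]; simp
    rw [this]
    infer_instance
  have h1 := (ModuleCat.mono_iff_injective _).1 h0
  letI := (g.stalkMap z).hom.toAlgebra
  exact mem_of_injective_bc (S := Z.presheaf.stalk z) hs (QCoh.stalkLin u (g z)) h1 m hm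

theorem isOpen_injective_stalk [IsLocallyNoetherian X] {M N : X.Modules} (hM : Coh.IsCoh M) (hN : Coh.IsCoh N)
    (u : M ⟶ N) : IsOpen {x : X | Function.Injective (QCoh.stalkLin u x)} := by
  have : {x : X | Function.Injective (QCoh.stalkLin u x)} = (CohB1.support (kernel u))ᶜ := by
    ext x
    refine ⟨QCoh.notMem_support_kernel_of_injective u, fun h => ?_⟩
    have he := (OX.exact_iff _).1 (ShortComplex.exact_kernel u) x
    rw [ShortComplex.moduleCat_exact_iff] at he
    refine (injective_iff_map_eq_zero _).2 fun m hm => ?_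
    obtain ⟨k, hk⟩ := he m hm
    haveI := QCoh.stalk_subsingleton_of_notMem h
    rw [← hk, Subsingleton.elim (α := (kernel u).presheaf.stalk x) k 0]
    exact map_zero _
  rw [this]
  exact (QCoh.isClosed_support_of_isCoh (QCoh.isCoh_kernel u hM hN)).isOpen_compl

theorem isOpen_surjective_stalk {M N : X.Modules} (hM : Coh.IsCoh M) (hN : Coh.IsCoh N)
    (u : M ⟶ N) : IsOpen {x : X | Function.Surjective (QCoh.stalkLin u x)} := by
  have : {x : X | Function.Surjective (QCoh.stalkLin u x)} = (CohB1.support (cokernel u))ᶜ := by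
    ext x
    refine ⟨QCoh.notMem_support_cokernel_of_surjective u, fun h n => ?_⟩
    have he := (OX.exact_iff _).1 (ShortComplex.exact_cokernel u) x
    rw [ShortComplex.moduleCat_exact_iff] at he
    haveI := QCoh.stalk_subsingleton_of_notMem h
    exact he n (Subsingleton.elim (α := (cokernel u).presheaf.stalk x) _ _)
  rw [this]
  exact (QCoh.isClosed_support_of_isCoh (QCoh.isCoh_cokernel u hM hN)).isOpen_compl

/-- An open set containing a fibre of a closed map contains the preimage of a neighbourhood. -/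
theorem exists_preimage_subset (f : X ⟶ Y) (hf : IsClosedMap f) (y : Y) {S : Set X} (hS : IsOpen S)
    (h : ∀ x, f x = y → x ∈ S) : ∃ W : Y.Opens, y ∈ W ∧ ((f ⁻¹ᵁ W : X.Opens) : Set X) ⊆ S :=
  ⟨⟨(f '' Sᶜ)ᶜ, (hf _ hS.isClosed_compl).isOpen_compl⟩, fun ⟨x, hx, hxy⟩ => hx (h x hxy),
    fun x hx => by_contra fun hS' => hx ⟨x, hS', rfl⟩⟩

/-- **Surjectivity spreads from the fibre.** -/
theorem exists_epi_near (f : X ⟶ Y) [IsProper f] (y : Y) {M N : X.Modules} (hM : Coh.IsCoh M)
    (hN : Coh.IsCoh N) (u : M ⟶ N) [Epi ((Scheme.Modules.pullback (f.fiberι y)).map u)] :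
    ∃ W : Y.Opens, y ∈ W ∧ ∀ x ∈ f ⁻¹ᵁ W, Function.Surjective (QCoh.stalkLin u x) := by
  refine exists_preimage_subset f f.isClosedMap y (isOpen_surjective_stalk hM hN u) fun x hx => ?_
  subst hx
  have h := surjective_stalk_of_pullback (f.fiberι (f x)) (f.asFiber x)
    ((f.fiberι _).stalkMap_surjective (f.asFiber x)) hN u
  rw [f.fiberι_asFiber] at h
  exact h

/-- Injectivity at a point of the fibre, for maps into modules flat over the base. -/
theorem injective_stalk_of_fibre (f : X ⟶ Y) [IsLocallyNoetherian X] (x : X) {M N : X.Modules}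
    (hM : Module.Finite (X.presheaf.stalk x) (M.presheaf.stalk x)) (hfl : FlatMod.IsFlatOver f N) (u : M ⟶ N)
    [Mono ((Scheme.Modules.pullback (f.fiberι (f x))).map u)] :
    Function.Injective (QCoh.stalkLin u x) := by
  obtain ⟨z, hz⟩ : ∃ z, f.fiberι (f x) z = x := ⟨f.asFiber x, f.fiberι_asFiber x⟩
  obtain ⟨hsurj, hker⟩ := FibreFlat.fiberι_stalkMap f (f x) z
  have key := mem_of_mono_pullback (f.fiberι (f x)) z hsurj u
  rw [hker] at key
  generalize f.fiberι (f x) z = x' at key hz
  subst hz
  let A := Y.presheaf.stalk (f x')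
  let B := X.presheaf.stalk x'
  letI : Algebra A B := (f.stalkMap x').hom.toAlgebra
  haveI : IsLocalHom (algebraMap A B) := inferInstanceAs (IsLocalHom (f.stalkMap x').hom)
  letI : Module A (M.presheaf.stalk x') := FlatMod.moduleStalkOver f M x'
  letI : Module A (N.presheaf.stalk x') := FlatMod.moduleStalkOver f N x'
  haveI : IsScalarTower A B (M.presheaf.stalk x') := IsScalarTower.of_algebraMap_smul fun _ _ => rfl
  haveI : IsScalarTower A B (N.presheaf.stalk x') := IsScalarTower.of_algebraMap_smul fun _ _ => rfl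
  haveI : Module.Flat A (N.presheaf.stalk x') := hfl x'
  haveI : Module.Finite B (M.presheaf.stalk x') := hM
  exact injective_of_mem_maxIdeal (A := A) (B := B) (QCoh.stalkLin u x') key

/-- **Injectivity spreads from the fibre**, for maps into modules flat over the base. -/
theorem exists_mono_near (f : X ⟶ Y) [IsProper f] [IsLocallyNoetherian X] (y : Y) {M N : X.Modules}
    (hM : Coh.IsCoh M) (hN : Coh.IsCoh N) (hfl : FlatMod.IsFlatOver f N) (u : M ⟶ N)
    [Mono ((Scheme.Modules.pullback (f.fiberι y)).map u)] :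
    ∃ W : Y.Opens, y ∈ W ∧ ∀ x ∈ f ⁻¹ᵁ W, Function.Injective (QCoh.stalkLin u x) := by
  refine exists_preimage_subset f f.isClosedMap y (isOpen_injective_stalk hM hN u) fun x hx => ?_
  subst hx
  exact injective_stalk_of_fibre f x (QCoh.stalk_finite M hM x) hfl u

/-- Bijectivity is reflected by pullback along an open immersion. -/
theorem bijective_stalk_of_openImmersion (j : Z ⟶ X) [IsOpenImmersion j] (z : Z) {M N : X.Modules} (u : M ⟶ N)
    (h : IsIso ((OX.stalk z).map ((Scheme.Modules.pullback j).map u))) :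
    Function.Bijective (QCoh.stalkLin u (j z)) := by
  have hb : Function.Bijective (j.stalkMap z).hom := ConcreteCategory.bijective_of_isIso (j.stalkMap z)
  have h0 : IsIso ((ModuleCat.extendScalars (j.stalkMap z).hom).map ((OX.stalk (j z)).map u)) := by
    have : (ModuleCat.extendScalars (j.stalkMap z).hom).map ((OX.stalk (j z)).map u) =
        (OX.pullStalkIso j z).inv.app M ≫ (OX.stalk z).map ((Scheme.Modules.pullback j).map u) ≫
          (OX.pullStalkIso j z).hom.app N := by
      rw [stalk_pullback_map]; simp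
    rw [this]
    infer_instance
  have h1 := (ConcreteCategory.isIso_iff_bijective _).1 h0
  letI := (j.stalkMap z).hom.toAlgebra
  have hs : Function.Surjective (algebraMap (X.presheaf.stalk (j z)) (Z.presheaf.stalk z)) := hb.2
  have hker : RingHom.ker (algebraMap (X.presheaf.stalk (j z)) (Z.presheaf.stalk z)) = ⊥ :=
    (RingHom.injective_iff_ker_eq_bot _).1 hb.1
  constructor
  · refine (injective_iff_map_eq_zero _).2 fun m hm => ?_
    have := mem_of_injective_bc (S := Z.presheaf.stalk z) hs (QCoh.stalkLin u (j z)) h1.1 m (by rw [hm]; exact zero_mem _)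
    rwa [hker, Submodule.bot_smul, Submodule.mem_bot] at this
  · intro n
    obtain ⟨t, ht⟩ := h1.2 ((1 : Z.presheaf.stalk z) ⊗ₜ n)
    obtain ⟨m, rfl⟩ : ∃ m, t = (1 : Z.presheaf.stalk z) ⊗ₜ[X.presheaf.stalk (j z)] m := by
      clear ht
      induction t using TensorProduct.induction_on with
      | zero => exact ⟨0, (TensorProduct.tmul_zero _ _).symm⟩
      | tmul c m =>
        obtain ⟨r, rfl⟩ := hs c
        refine ⟨r • m, ?_⟩
        rw [TensorProduct.tmul_smul, TensorProduct.smul_tmul']
        exact congrArg (· ⊗ₜ[X.presheaf.stalk (j z)] m)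
          ((Algebra.smul_def r (1 : Z.presheaf.stalk z)).trans (mul_one _)).symm
      | add a b ha hb' =>
        obtain ⟨m, rfl⟩ := ha
        obtain ⟨m', rfl⟩ := hb'
        exact ⟨m + m', (TensorProduct.tmul_add _ _ _).symm⟩
    refine ⟨m, (sub_eq_zero.1 ?_).symm⟩
    have h2 : (1 : Z.presheaf.stalk z) ⊗ₜ[X.presheaf.stalk (j z)] (n - QCoh.stalkLin u (j z) m) = 0 :=
      (TensorProduct.tmul_sub _ _ _).trans (sub_eq_zero.2 ht.symm)
    have := (one_tmul_eq_zero_iff hs _).1 h2
    rwa [hker, Submodule.bot_smul, Submodule.mem_bot] at this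

/-- A map with bijective stalks over an open restricts to an isomorphism. -/
theorem isIso_restrict_of_stalk (W : X.Opens) {M N : X.Modules} (u : M ⟶ N)
    (h : ∀ x ∈ W, Function.Bijective (QCoh.stalkLin u x)) :
    IsIso ((Scheme.Modules.restrictFunctor W.ι).map u) := by
  refine (NatIso.isIso_map_iff (Scheme.Modules.restrictFunctorIsoPullback W.ι) u).2 ?_
  refine (OX.isIso_iff _).2 fun z => ?_
  haveI : IsIso ((OX.stalk (W.ι z)).map u) :=
    (ConcreteCategory.isIso_iff_bijective _).2 (h (W.ι z) z.2)
  rw [stalk_pullback_map]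
  infer_instance

end GrothLib.LocFreeHom
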