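import Groth.Agent.Lib.LocFreeHom.Lift
import Groth.Agent.Lib.LocFreeHom.NearFibre

/-! # Isomorphisms of finite locally free modules extend from a fibre with vanishing `H¹` -/

set_option autoImplicit false
set_option maxHeartbeats 1000000
set_option linter.style.haveILetI false
universe u

open CategoryTheory CategoryTheory.Limits AlgebraicGeometry TopologicalSpace Opposite

namespace GrothLib.LocFreeHom

variable {X Y Z : Scheme.{u}}

attribute [local instance] hasSheafHom

theorem isIso_of_isIso_restrict_top {U : X.Opens} (hU : U = ⊤) {M N : X.Modules} (b : M ⟶ N)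
    (h : IsIso ((Scheme.Modules.restrictFunctor U.ι).map b)) : IsIso b :=
  (OX.isIso_iff _).2 fun x => isIso_stalk_of_restrict U.ι b h ⟨x, hU ▸ trivial⟩

theorem isIso_pullback_fibre (f : X ⟶ Y) {y : Y} {V : Y.Opens} (hy : y ∈ V) {M N : X.Modules} (b : M ⟶ N)
    (h : IsIso ((Scheme.Modules.restrictFunctor (f ⁻¹ᵁ V).ι).map b)) :
    IsIso ((Scheme.Modules.pullback (f.fiberι y)).map b) := by
  refine (OX.isIso_iff _).2 fun z => ?_
  have hz : f.fiberι y z ∈ f ⁻¹ᵁ V := by
    show f (f.fiberι y z) ∈ V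
    rw [show f (f.fiberι y z) = y from (f.range_fiberι y).le ⟨z, rfl⟩]; exact hy
  exact isIso_stalk_of_restrict (f.fiberι y ⁻¹ᵁ (f ⁻¹ᵁ V)).ι _ (isIso_restrict_pullback _ _ b h) ⟨z, hz⟩

/-- **Isomorphisms extend from the fibre to a neighbourhood.** -/
theorem exists_iso_near (f : X ⟶ Y) [IsProper f] [Flat f] [LocallyOfFinitePresentation f]
    [IsLocallyNoetherian X] (y : Y) {F G : X.Modules} (hF : FlatMod.IsFinLocFree F) (hG : FlatMod.IsFinLocFree G)
    [DCoh.HasSheafHom (CohIII.fiberMod f F y)]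
    (h1 : Subsingleton (Coh.HH (f.fiber y) (iHom (CohIII.fiberMod f F y) (CohIII.fiberMod f F y)) 1))
    (e : CohIII.fiberMod f F y ≅ CohIII.fiberMod f G y) :
    ∃ W : Y.Opens, y ∈ W ∧ Nonempty (F.restrict (f ⁻¹ᵁ W).ι ≅ G.restrict (f ⁻¹ᵁ W).ι) := by
  have h1' : Subsingleton (Coh.HH (f.fiber y) (iHom (CohIII.fiberMod f F y) (CohIII.fiberMod f G y)) 1) :=
    ⟨fun a c => by
      let a' := (DCoh.sheafHom (CohIII.fiberMod f F y)).mapIso e
      have k : ∀ x, CohPull.mapH a'.hom 1 (CohPull.mapH a'.inv 1 x) = x := fun x => by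
        rw [← CohPullLib.mapH_comp, Iso.inv_hom_id, CohPullLib.mapH_id]
      rw [← k a, ← k c]
      exact congrArg _ (@Subsingleton.elim _ h1 _ _)⟩
  obtain ⟨V, hyV, B, b, v, hb, hv⟩ := exists_lift_near f y hF hG h1' e.hom
  let U := f ⁻¹ᵁ V
  let R := Scheme.Modules.pullback U.ι
  haveI hbR : IsIso (R.map b) := (NatIso.isIso_map_iff (Scheme.Modules.restrictFunctorIsoPullback U.ι) b).1 hb
  let uU : R.obj F ⟶ R.obj G := inv (R.map b) ≫ R.map v
  have hFU : Coh.IsCoh (R.obj F) := Euler.isCoh_of_isFinLocFree (OX.isFinLocFree_pullback U.ι hF)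
  have hGU : Coh.IsCoh (R.obj G) := Euler.isCoh_of_isFinLocFree (OX.isFinLocFree_pullback U.ι hG)
  have hopen : IsOpen (U.ι '' ({z | Function.Injective (QCoh.stalkLin uU z)} ∩
      {z | Function.Surjective (QCoh.stalkLin uU z)})) :=
    U.ι.isOpenEmbedding.isOpenMap _
      ((isOpen_injective_stalk hFU hGU uU).inter (isOpen_surjective_stalk hFU hGU uU))
  obtain ⟨W, hyW, hW⟩ := exists_preimage_subset f f.isClosedMap y hopen fun x hx => by
    subst hx
    refine ⟨⟨x, hyV⟩, ?_, rfl⟩
    haveI := isIso_pullback_fibre f hyV b hb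
    haveI : IsIso ((Scheme.Modules.pullback (f.fiberι (f x))).map v) := by rw [hv]; infer_instance
    haveI hbx : IsIso ((OX.stalk x).map b) := isIso_stalk_of_restrict U.ι b hb ⟨x, hyV⟩
    have hfin : Module.Finite (X.presheaf.stalk x) (B.presheaf.stalk x) :=
      haveI : Module.Finite (X.presheaf.stalk x) ((OX.stalk x).obj F) :=
        QCoh.stalk_finite F (Euler.isCoh_of_isFinLocFree hF) x
      Module.Finite.equiv (asIso ((OX.stalk x).map b)).toLinearEquiv.symm
    have hinj := injective_stalk_of_fibre f x hfin (isFlatOver_of_isFinLocFree f hG) v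
    have hsurj : Function.Surjective (QCoh.stalkLin v x) := by
      have h := surjective_stalk_of_pullback (f.fiberι (f x)) (f.asFiber x)
        ((f.fiberι _).stalkMap_surjective (f.asFiber x)) (Euler.isCoh_of_isFinLocFree hG) v
      rw [f.fiberι_asFiber] at h
      exact h
    haveI : IsIso ((OX.stalk x).map v) := (ConcreteCategory.isIso_iff_bijective _).2 ⟨hinj, hsurj⟩
    haveI : IsIso ((OX.stalk (⟨x, hyV⟩ : (U : Scheme.{u}))).map (R.map v)) := by
      rw [stalk_pullback_map]
      have : IsIso ((OX.stalk (U.ι (⟨x, hyV⟩ : (U : Scheme.{u})))).map v) := ‹IsIso ((OX.stalk x).map v)›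
      infer_instance
    haveI : IsIso ((OX.stalk (⟨x, hyV⟩ : (U : Scheme.{u}))).map uU) := by
      rw [Functor.map_comp]; infer_instance
    exact ConcreteCategory.bijective_of_isIso ((OX.stalk (⟨x, hyV⟩ : (U : Scheme.{u}))).map uU)
  let W' := W ⊓ V
  have hle : f ⁻¹ᵁ W' ≤ U := fun x hx => hx.2
  have hvW : IsIso ((Scheme.Modules.restrictFunctor (f ⁻¹ᵁ W').ι).map v) := by
    refine isIso_restrict_of_stalk _ v fun x hx => ?_
    obtain ⟨z, hz, rfl⟩ := hW hx.1
    refine bijective_stalk_of_openImmersion U.ι z v ?_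
    have hz' : Function.Injective (QCoh.stalkLin uU z) ∧ Function.Surjective (QCoh.stalkLin uU z) := hz
    haveI : IsIso ((OX.stalk z).map uU) :=
      (ConcreteCategory.isIso_iff_bijective ((OX.stalk z).map uU)).2 (show Function.Bijective (QCoh.stalkLin uU z) from hz')
    rw [show R.map v = R.map b ≫ uU by simp [uU], Functor.map_comp]
    infer_instance
  have hbW : IsIso ((Scheme.Modules.restrictFunctor (f ⁻¹ᵁ W').ι).map b) := by
    refine isIso_restrict_of_stalk _ b fun x hx => ?_
    haveI : IsIso ((OX.stalk x).map b) := isIso_stalk_of_restrict U.ι b hb ⟨x, hle hx⟩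
    exact ConcreteCategory.bijective_of_isIso ((OX.stalk x).map b)
  exact ⟨W', ⟨hyW, hyV⟩, ⟨(asIso ((Scheme.Modules.restrictFunctor (f ⁻¹ᵁ W').ι).map b)).symm ≪≫
    asIso ((Scheme.Modules.restrictFunctor (f ⁻¹ᵁ W').ι).map v)⟩⟩

/-- An invertible module is finite locally free. -/
theorem isFinLocFree_of_isInvertible {L : X.Modules} (hL : PicF.IsInvertible L) : FlatMod.IsFinLocFree L :=
  fun x => by
    obtain ⟨U, hx, ⟨e⟩⟩ := hL x
    exact ⟨U, 1, hx, ⟨e ≪≫ (coproductUniqueIso fun _ : Fin 1 => Coh.structureModule (U : Scheme.{u})).symm⟩⟩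

/-- The endomorphism sheaf of an invertible module is the structure sheaf. -/
theorem nonempty_iHom_self_iso {L : X.Modules} (hlf : FlatMod.IsFinLocFree L)
    (hL : ∀ x : X, ∃ U : X.Opens, x ∈ U ∧ Nonempty ((Scheme.Modules.pullback U.ι).obj L ≅ Coh.structureModule U)) :
    Nonempty (Coh.structureModule X ≅ iHom L L) := by
  suffices h : IsIso (curry (tensorUnitRight L).hom) from ⟨@asIso _ _ _ _ _ h⟩
  refine (OX.isIso_iff _).2 fun x => ?_
  obtain ⟨U, hxU, ⟨e⟩⟩ := hL x
  refine (ConcreteCategory.isIso_iff_bijective _).2 ?_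
  refine bijective_stalk_of_openImmersion U.ι ⟨x, hxU⟩ (curry (tensorUnitRight L).hom) ?_
  suffices h : IsIso ((Scheme.Modules.pullback U.ι).map (curry (tensorUnitRight L).hom)) by infer_instance
  haveI := isIso_cmp U.ι hlf L
  haveI := isEquivalence_T_unit e
  haveI := isIso_ev_of_unit e ((Scheme.Modules.pullback U.ι).obj L)
  let h := (Scheme.Modules.pullback U.ι).map (curry (tensorUnitRight L).hom) ≫ cmp U.ι L L
  haveI : IsIso h := by
    have hu : IsIso (uncurry h) := by
      rw [uncurry_pull_comp_cmp, uncurry_curry]; infer_instance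
    haveI : IsIso ((T ((Scheme.Modules.pullback U.ι).obj L)).map h) :=
      IsIso.of_isIso_comp_right _ (ev _ ((Scheme.Modules.pullback U.ι).obj L))
    exact isIso_of_reflects_iso h (T ((Scheme.Modules.pullback U.ι).obj L))
  exact IsIso.of_isIso_comp_right _ (cmp U.ι L L)

end GrothLib.LocFreeHom
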