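import Groth.Agent.Lib.OX.LocFreeTensor
import Groth.Agent.Lib.OX.TensorInjective
import Groth.Agent.Lib.OX.TensorAssoc
import Groth.Agent.Lib.OX.ProjLocal
import Groth.Agent.Lib.OX.ExtZeroOpen
import Groth.Agent.Lib.SheafCoh.ModGroth
import Mathlib.CategoryTheory.Adjunction.AdjointFunctorTheorems

/-! # The sheaf Hom out of finite locally free modules: pullback, local freeness -/

set_option autoImplicit false
set_option maxHeartbeats 1000000
set_option linter.style.haveILetI false
universe u

open CategoryTheory CategoryTheory.Limits AlgebraicGeometry MonoidalCategory TopologicalSpace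

namespace GrothLib.LocFreeHom

variable {X Y U : Scheme.{u}}

/-- Tensoring with a module has a right adjoint. -/
theorem hasSheafHom (M : X.Modules) : DCoh.HasSheafHom M := by
  have : PreservesColimitsOfSize.{u, u} ((DCoh.tensorBi (X := X)).obj M) :=
    OX.preservesColimitsOfSize_tensorBi_obj M
  exact isLeftAdjoint_of_preservesColimits_of_isSeparating (isSeparator_separator X.Modules) _

attribute [local instance] hasSheafHom

/-- `M ⊗ -`. -/
noncomputable abbrev T (M : X.Modules) : X.Modules ⥤ X.Modules := (DCoh.tensorBi (X := X)).obj M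

/-- `a ⊗ N`. -/
noncomputable abbrev wh {M M' : X.Modules} (a : M ⟶ M') (N : X.Modules) : (T M).obj N ⟶ (T M').obj N :=
  ((DCoh.tensorBi (X := X)).map a).app N

/-- `Hom(M, N)`. -/
noncomputable abbrev iHom (M N : X.Modules) : X.Modules := (DCoh.sheafHom M).obj N

/-- Evaluation. -/
noncomputable abbrev ev (M N : X.Modules) : (T M).obj (iHom M N) ⟶ N := (DCoh.sheafHomAdj M).counit.app N

/-- Transposition. -/
noncomputable abbrev curry {M P N : X.Modules} (h : (T M).obj P ⟶ N) : P ⟶ iHom M N :=
  (DCoh.sheafHomAdj M).homEquiv P N h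

/-- The inverse of transposition. -/
noncomputable abbrev uncurry {M P N : X.Modules} (h : P ⟶ iHom M N) : (T M).obj P ⟶ N :=
  (T M).map h ≫ ev M N

theorem uncurry_curry {M P N : X.Modules} (h : (T M).obj P ⟶ N) : uncurry (curry h) = h := by
  have := ((DCoh.sheafHomAdj M).homEquiv P N).symm_apply_apply h
  rw [Adjunction.homEquiv_counit] at this
  exact this

theorem hom_ext {M P N : X.Modules} {h h' : P ⟶ iHom M N} (e : uncurry h = uncurry h') : h = h' := by
  refine ((DCoh.sheafHomAdj M).homEquiv P N).symm.injective ?_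
  rw [Adjunction.homEquiv_counit, Adjunction.homEquiv_counit]
  exact e

theorem uncurry_comp {M P P' N : X.Modules} (k : P' ⟶ P) (h : P ⟶ iHom M N) :
    uncurry (k ≫ h) = (T M).map k ≫ uncurry h := by
  simp [uncurry]

/-- Precomposition in the first variable. -/
noncomputable def hMap {A F : X.Modules} (a : A ⟶ F) (G : X.Modules) : iHom F G ⟶ iHom A G :=
  curry (wh a _ ≫ ev F G)

theorem uncurry_hMap {A F : X.Modules} (a : A ⟶ F) (G : X.Modules) :
    uncurry (hMap a G) = wh a _ ≫ ev F G := uncurry_curry _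

theorem uncurry_comp_hMap {A F P : X.Modules} (a : A ⟶ F) (G : X.Modules) (k : P ⟶ iHom F G) :
    uncurry (k ≫ hMap a G) = wh a P ≫ uncurry k := by
  rw [uncurry_comp, uncurry_hMap, ← Category.assoc]
  exact (congrArg (· ≫ _) (((DCoh.tensorBi (X := X)).map a).naturality k)).trans (Category.assoc _ _ _)

theorem hMap_id (F G : X.Modules) : hMap (𝟙 F) G = 𝟙 _ := hom_ext <| by
  rw [uncurry_hMap]; simp [wh, uncurry]

theorem hMap_comp {A B F : X.Modules} (a : A ⟶ B) (b : B ⟶ F) (G : X.Modules) :
    hMap (a ≫ b) G = hMap b G ≫ hMap a G := hom_ext <| by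
  rw [uncurry_comp_hMap, uncurry_hMap, uncurry_hMap, wh, wh, wh, Functor.map_comp, NatTrans.comp_app,
    Category.assoc]

theorem hMap_add {A F : X.Modules} (a b : A ⟶ F) (G : X.Modules) :
    hMap (a + b) G = hMap a G + hMap b G := hom_ext <| by
  simp only [uncurry, Functor.map_add, Preadditive.add_comp]
  rw [← uncurry, ← uncurry, ← uncurry, uncurry_hMap, uncurry_hMap, uncurry_hMap, wh, Functor.map_add,
    NatTrans.app_add, Preadditive.add_comp]

/-- Precomposition as an additive map. -/
noncomputable def hMapHom (A F G : X.Modules) : (A ⟶ F) →+ (iHom F G ⟶ iHom A G) :=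
  AddMonoidHom.mk' (fun a => hMap a G) fun a b => hMap_add a b G

theorem hMap_sum {ι : Type*} [Fintype ι] {A F : X.Modules} (a : ι → (A ⟶ F)) (G : X.Modules) :
    hMap (∑ i, a i) G = ∑ i, hMap (a i) G :=
  map_sum (hMapHom A F G) a Finset.univ

/-! ### Invariance over an open -/

theorem isIso_stalk_of_restrict (j : U ⟶ X) [IsOpenImmersion j] {M N : X.Modules} (a : M ⟶ N)
    (h : IsIso ((Scheme.Modules.restrictFunctor j).map a)) (y : U) : IsIso ((OX.stalk (j y)).map a) := by
  haveI := OX.mono_stalk_map_of_restrict j a y inferInstance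
  haveI := OX.epi_stalk_map_of_restrict j a y inferInstance
  exact isIso_of_mono_of_epi _

theorem isIso_wh_extZero (j : U ⟶ X) [IsOpenImmersion j] {A F : X.Modules} (a : A ⟶ F)
    (h : IsIso ((Scheme.Modules.restrictFunctor j).map a)) (P : U.Modules) :
    IsIso (wh a ((CxOX.extZero j).obj P)) := by
  refine (OX.isIso_iff _).2 fun x => ?_
  by_cases hx : x ∈ Set.range j
  · obtain ⟨y, rfl⟩ := hx
    exact isIso_stalk_of_restrict j _ (OX.isIso_restrict_tensor_left j a h _) y
  · have hz : ∀ M : X.Modules, IsZero ((OX.stalk x).obj ((T M).obj ((CxOX.extZero j).obj P))) := fun M =>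
      IsZero.of_iso ((MonoidalCategory.tensorLeft ((OX.stalk x).obj M)).map_isZero (OX.isZero_stalk_extZero j P x hx))
        (OX.stalkTensorBiIso x M _)
    exact ⟨0, (hz A).eq_of_src _ _, (hz F).eq_of_src _ _⟩

/-- A map invertible over an open induces a map of sheaf Homs invertible over it. -/
theorem isIso_restrict_hMap (j : U ⟶ X) [IsOpenImmersion j] {A F : X.Modules} (a : A ⟶ F)
    (h : IsIso ((Scheme.Modules.restrictFunctor j).map a)) (G : X.Modules) :
    IsIso ((Scheme.Modules.restrictFunctor j).map (hMap a G)) := by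
  refine isIso_of_yoneda_map_bijective _ fun P => ?_
  have := isIso_wh_extZero j a h P
  let z := CxOX.extZeroAdj j
  let eF := (z.homEquiv P (iHom F G)).symm.trans ((DCoh.sheafHomAdj F).homEquiv _ G).symm
  let eA := (z.homEquiv P (iHom A G)).symm.trans ((DCoh.sheafHomAdj A).homEquiv _ G).symm
  have hsq : ∀ k, eA (k ≫ (Scheme.Modules.restrictFunctor j).map (hMap a G)) =
      wh a ((CxOX.extZero j).obj P) ≫ eF k := fun k => by
    simp only [eA, eF, Equiv.trans_apply]
    rw [Adjunction.homEquiv_naturality_right_symm, Adjunction.homEquiv_counit (adj := DCoh.sheafHomAdj A),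
      Adjunction.homEquiv_counit (adj := DCoh.sheafHomAdj F)]
    exact uncurry_comp_hMap a G _
  have h2 : (fun k => k ≫ (Scheme.Modules.restrictFunctor j).map (hMap a G)) =
      fun k => eA.symm (wh a ((CxOX.extZero j).obj P) ≫ eF k) := funext fun k => by
    rw [← hsq k, Equiv.symm_apply_apply]
  rw [h2]
  exact eA.symm.bijective.comp ((Function.bijective_iff_has_inverse.2
    ⟨fun k => inv (wh a ((CxOX.extZero j).obj P)) ≫ k, fun k => IsIso.inv_hom_id_assoc _ k,
      fun k => IsIso.hom_inv_id_assoc _ k⟩).comp eF.bijective)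

/-! ### Pullback -/

variable (g : Y ⟶ X)

/-- `g^* Hom(F, G) ⟶ Hom(g^* F, g^* G)`. -/
noncomputable def cmp (F G : X.Modules) :
    (Scheme.Modules.pullback g).obj (iHom F G) ⟶
      iHom ((Scheme.Modules.pullback g).obj F) ((Scheme.Modules.pullback g).obj G) :=
  curry ((OX.pullTensorIso g F (iHom F G)).inv ≫ (Scheme.Modules.pullback g).map (ev F G))

theorem uncurry_cmp (F G : X.Modules) :
    uncurry (cmp g F G) = (OX.pullTensorIso g F (iHom F G)).inv ≫ (Scheme.Modules.pullback g).map (ev F G) :=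
  uncurry_curry _

theorem uncurry_pull_comp_cmp {F G P : X.Modules} (k : P ⟶ iHom F G) :
    uncurry ((Scheme.Modules.pullback g).map k ≫ cmp g F G) =
      (OX.pullTensorIso g F P).inv ≫ (Scheme.Modules.pullback g).map (uncurry k) := by
  rw [uncurry_comp, uncurry_cmp, Functor.map_comp, ← Category.assoc, ← Category.assoc]
  congr 1
  rw [Iso.comp_inv_eq, Category.assoc, Iso.eq_inv_comp]
  exact (OX.pullTensorIso_natural₂ g F k).symm

theorem cmp_natural {A F : X.Modules} (a : A ⟶ F) (G : X.Modules) :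
    (Scheme.Modules.pullback g).map (hMap a G) ≫ cmp g A G =
      cmp g F G ≫ hMap ((Scheme.Modules.pullback g).map a) ((Scheme.Modules.pullback g).obj G) := hom_ext <| by
  rw [uncurry_pull_comp_cmp, uncurry_comp_hMap, uncurry_cmp, uncurry_hMap, Functor.map_comp, ← Category.assoc,
    ← Category.assoc]
  congr 1
  rw [Iso.inv_comp_eq, ← Category.assoc, Iso.eq_comp_inv]
  exact OX.pullTensorIso_natural₁ g a _

theorem isEquivalence_T_unit {F : X.Modules} (e : F ≅ Coh.structureModule X) : (T F).IsEquivalence :=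
  Functor.isEquivalence_of_iso ((DCoh.tensorBi (X := X)).mapIso e ≪≫ OX.tensorUnitNatIso).symm

theorem isIso_ev_of_unit {F : X.Modules} (e : F ≅ Coh.structureModule X) (G : X.Modules) : IsIso (ev F G) := by
  haveI := isEquivalence_T_unit e
  haveI := (DCoh.sheafHomAdj F).isEquivalence_right_of_isEquivalence_left
  infer_instance

theorem isIso_cmp_of_unit {F : X.Modules} (e : F ≅ Coh.structureModule X) (G : X.Modules) : IsIso (cmp g F G) := by
  let e' : (Scheme.Modules.pullback g).obj F ≅ Coh.structureModule Y :=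
    (Scheme.Modules.pullback g).mapIso e ≪≫ OX.pullUnitIso g
  haveI := isEquivalence_T_unit e'
  haveI := isIso_ev_of_unit e G
  haveI := isIso_ev_of_unit e' ((Scheme.Modules.pullback g).obj G)
  have h : IsIso (uncurry (cmp g F G)) := by rw [uncurry_cmp]; infer_instance
  haveI : IsIso ((T ((Scheme.Modules.pullback g).obj F)).map (cmp g F G)) :=
    IsIso.of_isIso_comp_right _ (ev _ ((Scheme.Modules.pullback g).obj G))
  exact isIso_of_reflects_iso _ (T ((Scheme.Modules.pullback g).obj F))

/-- The projection from a finite free module. -/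
noncomputable def freeProj (Z : Scheme.{u}) (n : ℕ) (i : Fin n) : FlatMod.freeMod Z n ⟶ Coh.structureModule Z :=
  Sigma.desc fun k => if k = i then 𝟙 _ else 0

theorem ι_freeProj (Z : Scheme.{u}) (n : ℕ) (k i : Fin n) :
    Sigma.ι (fun _ : Fin n => Coh.structureModule Z) k ≫ freeProj Z n i = if k = i then 𝟙 _ else 0 :=
  Sigma.ι_desc _ _

theorem freeProj_total (Z : Scheme.{u}) (n : ℕ) :
    ∑ i, freeProj Z n i ≫ Sigma.ι (fun _ : Fin n => Coh.structureModule Z) i = 𝟙 (FlatMod.freeMod Z n) := by
  refine Sigma.hom_ext _ _ fun k => ?_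
  rw [Preadditive.comp_sum, Finset.sum_eq_single k]
  · rw [← Category.assoc, ι_freeProj, if_pos rfl, Category.id_comp, Category.comp_id]
  · intro i _ hi
    rw [← Category.assoc, ι_freeProj, if_neg (Ne.symm hi), zero_comp]
  · intro h; exact absurd (Finset.mem_univ k) h

theorem isIso_cmp_freeMod (n : ℕ) (G : X.Modules) : IsIso (cmp g (FlatMod.freeMod X n) G) := by
  let P := Scheme.Modules.pullback g
  let ι := fun i => Sigma.ι (fun _ : Fin n => Coh.structureModule X) i
  haveI := isIso_cmp_of_unit g (Iso.refl (Coh.structureModule X)) G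
  let c := cmp g (Coh.structureModule X) G
  refine ⟨∑ i, hMap (P.map (ι i)) (P.obj G) ≫ inv c ≫ P.map (hMap (freeProj X n i) G), ?_, ?_⟩
  · rw [Preadditive.comp_sum]
    refine (Finset.sum_congr rfl (g := fun i => P.map (hMap (ι i) G) ≫ P.map (hMap (freeProj X n i) G)) fun i _ => ?_).trans ?_
    · rw [← Category.assoc, ← cmp_natural g (ι i) G, Category.assoc]
      exact congrArg (P.map (hMap (ι i) G) ≫ ·) (IsIso.hom_inv_id_assoc c _)
    · simp only [← Functor.map_comp, ← hMap_comp]
      rw [← Functor.map_sum, ← hMap_sum, freeProj_total, hMap_id, CategoryTheory.Functor.map_id]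
  · rw [Preadditive.sum_comp]
    refine (Finset.sum_congr rfl (g := fun i => hMap (P.map (ι i)) (P.obj G) ≫ hMap (P.map (freeProj X n i)) (P.obj G))
      fun i _ => ?_).trans ?_
    · rw [Category.assoc, Category.assoc, cmp_natural g (freeProj X n i) G]
      exact congrArg (hMap (P.map (ι i)) (P.obj G) ≫ ·) (IsIso.inv_hom_id_assoc c _)
    · simp only [← hMap_comp, ← Functor.map_comp]
      rw [← hMap_sum, ← Functor.map_sum, freeProj_total, CategoryTheory.Functor.map_id, hMap_id]

theorem isIso_restrict_pullback (V : X.Opens) {M N : X.Modules} (a : M ⟶ N)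
    (h : IsIso ((Scheme.Modules.restrictFunctor V.ι).map a)) :
    IsIso ((Scheme.Modules.restrictFunctor (g ⁻¹ᵁ V).ι).map ((Scheme.Modules.pullback g).map a)) :=
  (NatIso.isIso_map_iff (OX.pullRestrictIso g V) a).1
    (inferInstanceAs (IsIso ((Scheme.Modules.pullback (g ∣_ V)).map ((Scheme.Modules.restrictFunctor V.ι).map a))))

theorem isIso_restrict_cmp_iff (V : X.Opens) {A F : X.Modules} (a : A ⟶ F)
    (h : IsIso ((Scheme.Modules.restrictFunctor V.ι).map a)) (G : X.Modules) :
    IsIso ((Scheme.Modules.restrictFunctor (g ⁻¹ᵁ V).ι).map (cmp g A G)) ↔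
      IsIso ((Scheme.Modules.restrictFunctor (g ⁻¹ᵁ V).ι).map (cmp g F G)) := by
  have h₁ := isIso_restrict_pullback g V _ (isIso_restrict_hMap V.ι a h G)
  have h₂ := isIso_restrict_hMap (g ⁻¹ᵁ V).ι _ (isIso_restrict_pullback g V a h) ((Scheme.Modules.pullback g).obj G)
  have e := congrArg (Scheme.Modules.restrictFunctor (g ⁻¹ᵁ V).ι).map (cmp_natural g a G)
  rw [Functor.map_comp, Functor.map_comp] at e
  constructor <;> intro hc
  · exact IsIso.of_isIso_fac_right e.symm
  · exact IsIso.of_isIso_fac_left e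

/-- Pullback commutes with the sheaf Hom out of a finite locally free module. -/
theorem isIso_cmp {F : X.Modules} (hF : FlatMod.IsFinLocFree F) (G : X.Modules) : IsIso (cmp g F G) := by
  refine (OX.isIso_iff _).2 fun x => ?_
  obtain ⟨V, n, hx, ⟨e⟩⟩ := hF (g x)
  suffices h : IsIso ((Scheme.Modules.restrictFunctor (g ⁻¹ᵁ V).ι).map (cmp g F G)) from
    isIso_stalk_of_restrict (g ⁻¹ᵁ V).ι _ h ⟨x, hx⟩
  let i : F.restrict V.ι ≅ (Scheme.Modules.restrictFunctor V.ι).obj (FlatMod.freeMod X n) :=
    e ≪≫ (DCoh.restrictFreeModIso V.ι n).symm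
  refine (isIso_restrict_cmp_iff g V (OX.epsZ V.ι F) (OX.isIso_restrict_epsZ V.ι F) G).1 ?_
  refine (isIso_restrict_cmp_iff g V ((CxOX.extZero V.ι).map i.hom) inferInstance G).2 ?_
  refine (isIso_restrict_cmp_iff g V (OX.epsZ V.ι _) (OX.isIso_restrict_epsZ V.ι _) G).2 ?_
  haveI := isIso_cmp_freeMod g n G
  infer_instance

/-! ### Local freeness -/

theorem nonempty_iHom_unit_iso (G : X.Modules) : Nonempty (iHom (Coh.structureModule X) G ≅ G) :=
  haveI := isIso_ev_of_unit (Iso.refl (Coh.structureModule X)) G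
  ⟨((OX.tensorUnitNatIso (X := X)).app _).symm ≪≫ asIso (ev (Coh.structureModule X) G)⟩

/-- `Hom(O^m, G)` is `G^m`. -/
noncomputable def iHomFreeIso (m : ℕ) (G : X.Modules) :
    iHom (FlatMod.freeMod X m) G ≅ ∐ fun _ : Fin m => iHom (Coh.structureModule X) G where
  hom := ∑ i, hMap (Sigma.ι (fun _ : Fin m => Coh.structureModule X) i) G ≫
    Sigma.ι (fun _ : Fin m => iHom (Coh.structureModule X) G) i
  inv := Sigma.desc fun i => hMap (freeProj X m i) G
  hom_inv_id := by
    rw [Preadditive.sum_comp]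
    simp only [Category.assoc, Sigma.ι_desc, ← hMap_comp]
    rw [← hMap_sum, freeProj_total, hMap_id]
  inv_hom_id := Sigma.hom_ext _ _ fun k => by
    rw [Sigma.ι_desc_assoc, Preadditive.comp_sum, Category.comp_id, Finset.sum_eq_single k]
    · rw [← Category.assoc, ← hMap_comp, ι_freeProj, if_pos rfl, hMap_id, Category.id_comp]
    · intro i _ hi
      rw [← Category.assoc, ← hMap_comp, ι_freeProj, if_neg hi]
      have h0 : hMap (0 : Coh.structureModule X ⟶ Coh.structureModule X) G = 0 :=
        map_zero (hMapHom (Coh.structureModule X) (Coh.structureModule X) G)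
      rw [h0, zero_comp]
    · intro h; exact absurd (Finset.mem_univ k) h

/-- The isomorphism of sheaf Homs induced by one in each variable. -/
noncomputable def iHomCongr {A F G G' : X.Modules} (a : A ≅ F) (b : G ≅ G') : iHom F G ≅ iHom A G' :=
  { hom := hMap a.hom G, inv := hMap a.inv G,
    hom_inv_id := by rw [← hMap_comp, a.inv_hom_id, hMap_id],
    inv_hom_id := by rw [← hMap_comp, a.hom_inv_id, hMap_id] : iHom F G ≅ iHom A G } ≪≫
  (DCoh.sheafHom A).mapIso b

theorem nonempty_iHom_free_free (m n : ℕ) :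
    Nonempty (iHom (FlatMod.freeMod X m) (FlatMod.freeMod X n) ≅ FlatMod.freeMod X (m * n)) := by
  obtain ⟨e⟩ := nonempty_iHom_unit_iso (FlatMod.freeMod X n)
  exact ⟨iHomFreeIso m _ ≪≫ Sigma.mapIso (fun _ => e) ≪≫
    sigmaSigmaIso (fun _ : Fin m => Fin n) (fun _ _ => Coh.structureModule X) ≪≫
    Sigma.whiskerEquiv (g := fun _ : Fin (m * n) => Coh.structureModule X)
      ((Equiv.sigmaEquivProd (Fin m) (Fin n)).trans finProdFinEquiv) (fun _ => Iso.refl _)⟩

/-- The sheaf Hom of finite locally free modules is finite locally free. -/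
theorem isFinLocFree_iHom {F G : X.Modules} (hF : FlatMod.IsFinLocFree F) (hG : FlatMod.IsFinLocFree G) :
    FlatMod.IsFinLocFree (iHom F G) := fun x => by
  obtain ⟨V, m, hxV, ⟨i⟩⟩ := hF x
  obtain ⟨W, n, hxW, ⟨j⟩⟩ := hG x
  obtain ⟨i'⟩ := DCoh.exists_free_restrict_le (inf_le_left : V ⊓ W ≤ V) i
  obtain ⟨j'⟩ := DCoh.exists_free_restrict_le (inf_le_right : V ⊓ W ≤ W) j
  let P := Scheme.Modules.restrictFunctorIsoPullback (V ⊓ W).ι
  haveI := isIso_cmp (V ⊓ W).ι hF G
  obtain ⟨e⟩ := nonempty_iHom_free_free (X := (V ⊓ W : X.Opens).toScheme) m n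
  exact ⟨V ⊓ W, m * n, ⟨hxV, hxW⟩, ⟨P.app _ ≪≫ asIso (cmp (V ⊓ W).ι F G) ≪≫
    iHomCongr ((P.app F).symm ≪≫ i').symm ((P.app G).symm ≪≫ j') ≪≫ e⟩⟩

/-! ### Lifting morphisms -/

/-- If maps into `Hom(F, G)` from `A` lift from the pullback, so do maps `F ⊗ A ⟶ G`. -/
theorem surjective_pull_of_surjective {F G : X.Modules} (hF : FlatMod.IsFinLocFree F) (A : X.Modules)
    (h : Function.Surjective fun s : A ⟶ iHom F G => (Scheme.Modules.pullback g).map s) :
    Function.Surjective fun v : (T F).obj A ⟶ G => (Scheme.Modules.pullback g).map v := by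
  intro v₀
  haveI := isIso_cmp g hF G
  obtain ⟨s, hs⟩ := h (curry ((OX.pullTensorIso g F A).inv ≫ v₀) ≫ inv (cmp g F G))
  refine ⟨uncurry s, ?_⟩
  rw [← cancel_epi (OX.pullTensorIso g F A).inv]
  show (OX.pullTensorIso g F A).inv ≫ (Scheme.Modules.pullback g).map (uncurry s) = _
  rw [← uncurry_pull_comp_cmp, show (Scheme.Modules.pullback g).map s = _ from hs, Category.assoc,
    IsIso.inv_hom_id, Category.comp_id, uncurry_curry]

end GrothLib.LocFreeHom
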