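import Groth.Agent.Lib.LocFreeHom.Basic
import Groth.Agent.Lib.BCCrit.Degree0
import Groth.Agent.Lib.BCCrit.DimBound
import Groth.Agent.Lib.LocFree8.Basic
import Groth.Agent.Lib.Euler.Coh
import Groth.Agent.Lib.FlatDesc.Basic
import Groth.Agent.Lib.CohPullLib.SecPull
import Groth.Agent.Lib.CohPullLib.Edge

/-! # Lifting morphisms of finite locally free modules from a fibre with vanishing `H¹` -/

set_option autoImplicit false
set_option maxHeartbeats 1000000
set_option linter.style.haveILetI false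
set_option backward.isDefEq.respectTransparency false
universe u

open CategoryTheory CategoryTheory.Limits AlgebraicGeometry MonoidalCategory TopologicalSpace Opposite
open GrothLib.BCCoh (pullRes)

namespace GrothLib.LocFreeHom

variable {X Y Z : Scheme.{u}}

attribute [local instance] hasSheafHom

/-- A finite locally free module on a scheme flat over the base is flat over the base. -/
theorem isFlatOver_of_isFinLocFree (f : X ⟶ Y) [Flat f] {M : X.Modules} (hM : FlatMod.IsFinLocFree M) :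
    FlatMod.IsFlatOver f M := fun x => by
  let C := Y.presheaf.stalk (f x)
  let B := X.presheaf.stalk x
  let N := M.presheaf.stalk x
  letI : Algebra C B := (f.stalkMap x).hom.toAlgebra
  haveI : Module.Flat C B := Flat.stalkMap f x
  letI : Module C N := FlatMod.moduleStalkOver f M x
  haveI : IsScalarTower C B N := IsScalarTower.of_algebraMap_smul fun _ _ => rfl
  haveI : Module.Flat B N := OX.flat_of_isFinLocFree hM x
  exact (Module.Flat.trans C B N : Module.Flat C N)

/-- Sections of the pullback to a fibre lift near the point when degree zero is good. -/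
theorem exists_pullRes_fibre_eq (f : X ⟶ Y) [IsProper f] [LocallyOfFinitePresentation f] {H : X.Modules}
    [Coh.IsQCoh H] (hH : CohB1.IsFP H) (hfl : FlatMod.IsFlatOver f H) (y : Y)
    (hg : BCCrit.GoodAll f H ((0 : ℕ) : ℤ) y) (t : Γ(CohIII.fiberMod f H y, ⊤)) :
    ∃ (V : Y.Opens) (_ : y ∈ V) (e : ⊤ ≤ f.fiberι y ⁻¹ᵁ (f ⁻¹ᵁ V)) (s : Γ(H, f ⁻¹ᵁ V)),
      pullRes (f.fiberι y) H (f ⁻¹ᵁ V) ⊤ e s = t := by
  let q := Y.fromSpecResidueField y
  let f' := f.fiberToSpecResidueField y
  let i := f.fiberι y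
  let B := CohBC.bc0 f q f' i (f.fiber_fac y) H
  haveI : Epi B := (BCCrit.goodAll_iff_epi0 hH hfl y).1 hg
  let p : Spec (Y.residueField y) := default
  have hq : q p = y := Scheme.fromSpecResidueField_apply _ _
  let P := (Scheme.Modules.pushforward f).obj H
  have hB : Function.Surjective ((OX.stalk p).map B).hom :=
    (ModuleCat.epi_iff_surjective ((OX.stalk p).map B)).1 ((OX.stalk p).map_epi B)
  obtain ⟨ξ, hξ⟩ := hB (OX.germ (DCoh.toP.obj ((Scheme.Modules.pushforward f').obj (CohIII.fiberMod f H y))) ⊤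
    (show p ∈ (⊤ : (Spec (Y.residueField y)).Opens) from trivial) t)
  -- every element of the base change is the image of a germ
  obtain ⟨n, hn⟩ : ∃ n, (ModuleCat.extendRestrictScalarsAdj (q.stalkMap p).hom).unit.app ((OX.stalk (q p)).obj P) n =
      ((OX.pullStalkIso q p).hom.app P).hom ξ := by
    generalize ((OX.pullStalkIso q p).hom.app P).hom ξ = w
    letI := (q.stalkMap p).hom.toAlgebra
    induction w using TensorProduct.induction_on with
    | zero => exact ⟨0, map_zero _⟩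
    | tmul c m =>
      obtain ⟨r, hr⟩ := q.stalkMap_surjective p c
      refine ⟨r • m, ?_⟩
      show (1 : (Spec (Y.residueField y)).presheaf.stalk p) ⊗ₜ[Y.presheaf.stalk (q p)] (r • m) = c ⊗ₜ m
      rw [TensorProduct.tmul_smul, TensorProduct.smul_tmul', Algebra.smul_def, mul_one]
      exact congrArg (· ⊗ₜ[Y.presheaf.stalk (q p)] m) hr
    | add a b ha hb =>
      obtain ⟨m, hm⟩ := ha
      obtain ⟨m', hm'⟩ := hb
      exact ⟨m + m', (map_add _ _ _).trans (congrArg₂ (· + ·) hm hm')⟩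
  obtain ⟨V, hpV, s, rfl⟩ := OX.germ_exists (DCoh.toP.obj P) n
  have hξ' : OX.germ (DCoh.toP.obj ((Scheme.Modules.pullback q).obj P)) (q ⁻¹ᵁ V) hpV (OX.pullSec q P V s) = ξ := by
    refine (ConcreteCategory.bijective_of_isIso ((OX.pullStalkIso q p).hom.app P)).1 ?_
    exact (OX.pullStalkIso_germ q p P V hpV s).trans hn
  have hyV : y ∈ V := hq ▸ hpV
  have htopV : (⊤ : (Spec (Y.residueField y)).Opens) ≤ q ⁻¹ᵁ V := fun z _ => by
    rw [show z = p from Subsingleton.elim _ _]; exact hpV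
  have e : ⊤ ≤ i ⁻¹ᵁ (f ⁻¹ᵁ V) := fun z _ => by
    show f (i z) ∈ V
    rw [← Scheme.Hom.comp_apply, f.fiber_fac y, Scheme.Hom.comp_apply, show f' z = p from Subsingleton.elim _ _]
    exact hpV
  refine ⟨V, hyV, e, s, ?_⟩
  let R := DCoh.toP.obj ((Scheme.Modules.pushforward f').obj (CohIII.fiberMod f H y))
  let σ := pullRes q P V ⊤ htopV s
  have hgerm : OX.germ R ⊤ (show p ∈ (⊤ : (Spec (Y.residueField y)).Opens) from trivial)
      ((DCoh.toP.map B).app (op ⊤) σ) =
      OX.germ R ⊤ (show p ∈ (⊤ : (Spec (Y.residueField y)).Opens) from trivial) t := by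
    refine ((OX.stalkPre_map_germ (DCoh.toP.map B) ⊤ trivial σ).symm.trans ?_)
    refine Eq.trans (congrArg _ ?_) hξ
    exact (OX.germ_map (DCoh.toP.obj ((Scheme.Modules.pullback q).obj P)) (homOfLE htopV) trivial _).trans hξ'
  obtain ⟨W, hW, iU, iV, heq⟩ := TopCat.Presheaf.germ_eq (OX.prs R) (U := ⊤) (V := ⊤) p trivial trivial _ _ hgerm
  have hWtop : W = ⊤ := top_le_iff.1 fun z _ => by rw [show z = p from Subsingleton.elim _ _]; exact hW
  subst hWtop
  have heq' : B.app ⊤ σ = t := by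
    have h1 := heq
    rw [Subsingleton.elim iU (𝟙 _), Subsingleton.elim iV (𝟙 _), op_id, CategoryTheory.Functor.map_id] at h1
    exact h1
  rw [← heq']
  exact (BCCrit.bc0_pullRes (f.fiber_fac y) H V ⊤ htopV e s).symm

/-- Maps out of the structure module of a pullback are determined by the image of `1`. -/
theorem hom_pullUnit_ext (g : Z ⟶ X) {N : Z.Modules}
    {a b : (Scheme.Modules.pullback g).obj (Coh.structureModule X) ⟶ N}
    (h : a.app ⊤ (pullRes g (Coh.structureModule X) ⊤ ⊤ le_top (1 : Γ(X, ⊤))) =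
      b.app ⊤ (pullRes g (Coh.structureModule X) ⊤ ⊤ le_top (1 : Γ(X, ⊤)))) : a = b := by
  refine ((Scheme.Modules.pullbackPushforwardAdjunction g).homEquiv _ _).injective ?_
  refine (SheafOfModules.unitHomEquiv _).injective (Subtype.ext (funext fun W => ?_))
  let k := fun c : (Scheme.Modules.pullback g).obj (Coh.structureModule X) ⟶ N =>
    (Scheme.Modules.pullbackPushforwardAdjunction g).homEquiv _ _ c
  have hk : ∀ c, (k c).app ⊤ (1 : Γ(X, ⊤)) =
      c.app ⊤ (pullRes g (Coh.structureModule X) ⊤ ⊤ le_top (1 : Γ(X, ⊤))) := fun c => by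
    simp only [k, Adjunction.homEquiv_unit, CohPullLib.pullRes_def]
    exact (congrArg (fun z => c.app ⊤ z) (CohPullLib.map_sec_self _ _ _).symm).trans rfl
  have h2 : (k a).app ⊤ (1 : Γ(X, ⊤)) = (k b).app ⊤ (1 : Γ(X, ⊤)) := (hk a).trans (h.trans (hk b).symm)
  have hres : ∀ c : Coh.structureModule X ⟶ (Scheme.Modules.pushforward g).obj N,
      c.app W.unop (1 : Γ(X, W.unop)) =
        ((Scheme.Modules.pushforward g).obj N).presheaf.map (homOfLE (le_top : W.unop ≤ ⊤)).op (c.app ⊤ (1 : Γ(X, ⊤))) :=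
    fun c => (congrArg (c.app W.unop) (map_one (X.presheaf.map (homOfLE (le_top : W.unop ≤ ⊤)).op).hom).symm).trans
      (CohPullLib.app_res c le_top _)
  exact (hres (k a)).trans ((congrArg _ h2).trans (hres (k b)).symm)

/-- A map out of `j_!O` with prescribed pullback along a morphism landing in the open. -/
theorem exists_extZero_map_eq (g : Z ⟶ X) (U : X.Opens) (e : ⊤ ≤ g ⁻¹ᵁ U) {H : X.Modules}
    (k₀ : (Scheme.Modules.pullback g).obj (Coh.structureModule X) ⟶ (Scheme.Modules.pullback g).obj H)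
    (s : Γ(H, U)) (hs : pullRes g H U ⊤ e s =
      k₀.app ⊤ (pullRes g (Coh.structureModule X) ⊤ ⊤ le_top (1 : Γ(X, ⊤)))) :
    ∃ k : (CxOX.extZero U.ι).obj ((Scheme.Modules.restrictFunctor U.ι).obj (Coh.structureModule X)) ⟶ H,
      (Scheme.Modules.pullback g).map k =
        (Scheme.Modules.pullback g).map (OX.epsZ U.ι (Coh.structureModule X)) ≫ k₀ := by
  let j := U.ι
  let adj := CxOX.extZeroAdj j
  let R := Scheme.Modules.restrictFunctor j
  have hU : U.ι ''ᵁ ⊤ ≤ U := U.ι_image_top.le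
  let s' : Γ(H, U.ι ''ᵁ ⊤) := H.presheaf.map (homOfLE hU).op s
  let kU₀ : SheafOfModules.unit (U : Scheme.{u}).ringCatSheaf ⟶ R.obj H :=
    (SheafOfModules.unitHomEquiv _).symm
      (PresheafOfModules.sectionsMk (fun W => (R.obj H).presheaf.map (homOfLE (le_top : W.unop ≤ ⊤)).op s')
        (fun {W W'} i => (CohPullLib.map_map_sec (R.obj H) le_top (leOfHom i.unop) s').trans rfl))
  have hkU₀ : Scheme.Modules.Hom.app (show SheafOfModules.unit (U : Scheme.{u}).ringCatSheaf ⟶ R.obj H from kU₀) ⊤ (1 : Γ(U, ⊤)) = s' :=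
    (congrArg (fun σ : (R.obj H).val.sections => σ.1 (op (⊤ : (U : Scheme.{u}).Opens)))
      ((SheafOfModules.unitHomEquiv _).apply_symm_apply _)).trans (CohPullLib.map_sec_self (R.obj H) _ s')
  let kU : R.obj (Coh.structureModule X) ⟶ R.obj H := (Scheme.Modules.restrictUnitIso j).hom ≫ kU₀
  let k := (adj.homEquiv _ H).symm kU
  refine ⟨k, ?_⟩
  let A := (CxOX.extZero j).obj (R.obj (Coh.structureModule X))
  let σ : Γ(A, U.ι ''ᵁ ⊤) := (adj.unit.app (R.obj (Coh.structureModule X))).app ⊤ (1 : Γ(X, U.ι ''ᵁ ⊤))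
  have hk : k.app (U.ι ''ᵁ ⊤) σ = s' := by
    have h1 : adj.unit.app (R.obj (Coh.structureModule X)) ≫ R.map k = kU :=
      (adj.homEquiv_unit _ _ k).symm.trans ((adj.homEquiv _ H).apply_symm_apply kU)
    refine (congrArg (fun c : R.obj (Coh.structureModule X) ⟶ R.obj H => c.app ⊤ (1 : Γ(X, U.ι ''ᵁ ⊤))) h1).trans ?_
    show Scheme.Modules.Hom.app (show SheafOfModules.unit (U : Scheme.{u}).ringCatSheaf ⟶ R.obj H from kU₀) ⊤ ((Scheme.Modules.restrictUnitIso j).hom.app ⊤ (1 : Γ(X, U.ι ''ᵁ ⊤))) = s'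
    exact (congrArg (Scheme.Modules.Hom.app (show SheafOfModules.unit (U : Scheme.{u}).ringCatSheaf ⟶ R.obj H from kU₀) ⊤) (map_one (U.ι.appIso ⊤).hom.hom)).trans hkU₀
  have hε : (OX.epsZ j (Coh.structureModule X)).app (U.ι ''ᵁ ⊤) σ = (1 : Γ(X, U.ι ''ᵁ ⊤)) :=
    congrArg (fun c : R.obj (Coh.structureModule X) ⟶ R.obj (Coh.structureModule X) =>
      c.app ⊤ (1 : Γ(X, U.ι ''ᵁ ⊤))) (adj.right_triangle_components (Coh.structureModule X))
  haveI : IsIso ((Scheme.Modules.pullback g).map (OX.epsZ j (Coh.structureModule X))) := by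
    refine (OX.isIso_iff _).2 fun z => ?_
    exact isIso_stalk_of_restrict (g ⁻¹ᵁ U).ι _
      (isIso_restrict_pullback g U _ (OX.isIso_restrict_epsZ j _)) ⟨z, e trivial⟩
  rw [← IsIso.inv_comp_eq]
  refine hom_pullUnit_ext g ?_
  have e' : (⊤ : Z.Opens) ≤ g ⁻¹ᵁ (U.ι ''ᵁ ⊤) := by rw [U.ι_image_top]; exact e
  have h1 : pullRes g (Coh.structureModule X) ⊤ ⊤ le_top (1 : Γ(X, ⊤)) =
      ((Scheme.Modules.pullback g).map (OX.epsZ j (Coh.structureModule X))).app ⊤ (pullRes g A _ ⊤ e' σ) := by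
    rw [CohPullLib.pullRes_map, hε]
    refine (CohPullLib.map_sec_self _ (le_refl ⊤) _).symm.trans
      ((BCCoh.pullRes_res g (Coh.structureModule X) le_top le_top e' (le_refl ⊤) _).trans ?_)
    exact congrArg (pullRes g (Coh.structureModule X) (U.ι ''ᵁ ⊤) ⊤ e') (map_one (X.presheaf.map (homOfLE _).op).hom)
  show _ = k₀.app ⊤ _
  rw [← hs, h1]
  refine (congrArg (fun c => ((Scheme.Modules.pullback g).map k).app ⊤ c)
    (congrArg (fun c : (Scheme.Modules.pullback g).obj A ⟶ (Scheme.Modules.pullback g).obj A =>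
      c.app ⊤ (pullRes g A _ ⊤ e' σ)) (IsIso.hom_inv_id
        ((Scheme.Modules.pullback g).map (OX.epsZ j (Coh.structureModule X)))))).trans ?_
  refine (CohPullLib.pullRes_map g k _ ⊤ e' σ).trans ?_
  rw [hk]
  exact ((BCCoh.pullRes_res g H hU e e' le_rfl s).symm).trans (CohPullLib.map_sec_self _ _ _)

theorem isIso_restrict_T_map (j : Z ⟶ X) [IsOpenImmersion j] (M : X.Modules) {N N' : X.Modules} (a : N ⟶ N')
    (ha : IsIso ((Scheme.Modules.restrictFunctor j).map a)) :
    IsIso ((Scheme.Modules.restrictFunctor j).map ((T M).map a)) := by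
  refine (NatIso.isIso_map_iff (Scheme.Modules.restrictFunctorIsoPullback j) _).2 ?_
  haveI : IsIso ((Scheme.Modules.pullback j).map a) :=
    (NatIso.isIso_map_iff (Scheme.Modules.restrictFunctorIsoPullback j) a).1 ha
  exact IsIso.of_isIso_fac_right (OX.pullTensorIso_natural₂ j M a)

/-- `F ⊗ O = F`. -/
noncomputable def tensorUnitRight (F : X.Modules) : (T F).obj (Coh.structureModule X) ≅ F :=
  (((OX.tensorBraiding (X := X)).app F).app (Coh.structureModule X)).symm ≪≫ OX.tensorUnitLeftIso F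

/-- **Morphisms on a fibre with vanishing `H¹` of the sheaf Hom extend to a neighbourhood.** -/
theorem exists_lift_near (f : X ⟶ Y) [IsProper f] [Flat f] [LocallyOfFinitePresentation f] (y : Y)
    {F G : X.Modules} (hF : FlatMod.IsFinLocFree F) (hG : FlatMod.IsFinLocFree G)
    [DCoh.HasSheafHom (CohIII.fiberMod f F y)]
    (h1 : Subsingleton (Coh.HH (f.fiber y) (iHom (CohIII.fiberMod f F y) (CohIII.fiberMod f G y)) 1))
    (u₀ : CohIII.fiberMod f F y ⟶ CohIII.fiberMod f G y) :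
    ∃ (V : Y.Opens) (_ : y ∈ V) (B : X.Modules) (b : B ⟶ F) (v : B ⟶ G),
      IsIso ((Scheme.Modules.restrictFunctor (f ⁻¹ᵁ V).ι).map b) ∧
      (Scheme.Modules.pullback (f.fiberι y)).map v = (Scheme.Modules.pullback (f.fiberι y)).map b ≫ u₀ := by
  let H := iHom F G
  have hHlf : FlatMod.IsFinLocFree H := isFinLocFree_iHom hF hG
  haveI : H.IsQuasicoherent := Euler.isQuasicoherent_of_isFinLocFree hHlf
  haveI : Coh.IsQCoh H := ‹H.IsQuasicoherent›
  have hHfp : CohB1.IsFP H := LocFree8.isFP_of_isFinLocFree (M := H) hHlf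
  have hHfl : FlatMod.IsFlatOver f H := isFlatOver_of_isFinLocFree f hHlf
  let i := f.fiberι y
  let P := Scheme.Modules.pullback i
  haveI := isIso_cmp i hF G
  have hsub : Subsingleton (CohIII.fiberH f H y 1) := ⟨fun a b => by
    have e : ∀ x, CohPull.mapH (inv (cmp i F G)) 1 (CohPull.mapH (cmp i F G) 1 x) = x := fun x => by
      rw [← CohPullLib.mapH_comp, IsIso.hom_inv_id, CohPullLib.mapH_id]
    rw [← e a, ← e b]
    exact congrArg _ (@Subsingleton.elim _ h1 _ _)⟩
  haveI : EnoughInjectives X.Modules := SheafCoh.enoughInjectives_sheafOfModules X.ringCatSheaf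
  have hgood : BCCrit.GoodAll f H ((0 : ℕ) : ℤ) y := by
    have := (BCCrit.goodAll_of_fiberRank_eq_zero 1 y
      ((BCCrit.subsingleton_fiberH_iff hHfp hHfl 1 y).1 hsub)).2
    simpa using this
  -- the target section
  let O := Coh.structureModule X
  let c₀ : P.obj O ⟶ P.obj H :=
    curry ((OX.pullTensorIso i F O).inv ≫ P.map (tensorUnitRight F).hom ≫ u₀) ≫ inv (cmp i F G)
  obtain ⟨V, hyV, e, s, hs⟩ := exists_pullRes_fibre_eq f hHfp hHfl y hgood
    (c₀.app ⊤ (pullRes i O ⊤ ⊤ le_top (1 : Γ(X, ⊤))))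
  obtain ⟨k, hk⟩ := exists_extZero_map_eq i (f ⁻¹ᵁ V) e c₀ s hs
  let ε := OX.epsZ (f ⁻¹ᵁ V).ι O
  refine ⟨V, hyV, _, (T F).map ε ≫ (tensorUnitRight F).hom, uncurry k, ?_, ?_⟩
  · haveI := isIso_restrict_T_map (f ⁻¹ᵁ V).ι F ε (OX.isIso_restrict_epsZ _ _)
    rw [Functor.map_comp]
    infer_instance
  · rw [← cancel_epi (OX.pullTensorIso i F _).inv, ← uncurry_pull_comp_cmp]
    have hk' : P.map k ≫ cmp i F G =
        P.map ε ≫ curry ((OX.pullTensorIso i F O).inv ≫ P.map (tensorUnitRight F).hom ≫ u₀) := by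
      rw [show P.map k = P.map ε ≫ c₀ from hk]
      simp [c₀]
    rw [hk', uncurry_comp, uncurry_curry, Functor.map_comp, Category.assoc, ← Category.assoc, ← Category.assoc _ (P.map ((T F).map ε))]
    congr 1
    rw [Iso.comp_inv_eq, Category.assoc, Iso.eq_inv_comp]
    exact (OX.pullTensorIso_natural₂ i F ε).symm

end GrothLib.LocFreeHom
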